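import Cfsg.Agent.Counting.SameOrder
import Mathlib

/-!
Groups of order `q (q² - 1)`, `q` a power of an odd prime `p`, in which some multiplicity of an element
order is `q²` and every multiplicity is `1`, `q² - 1` or a multiple of `q`: there are `q²` involutions,
`q² - 1` elements of order `p`, and every element of order divisible by `p` has order `p`.
-/

set_option autoImplicit false
set_option linter.unusedSectionVars false

namespace Cfsg.Lib.NseProjLine

open Cfsg.Lib.SameOrder (cnt cnt_one cnt_ne_zero_iff cnt_even dvd_sum_divisors zmod_one)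

universe u

variable {G : Type u} [Group G] [Finite G]

theorem card_conj_mul (x : G) :
    Nat.card {y : G // IsConj x y} * Nat.card (Subgroup.centralizer ({x} : Set G)) = Nat.card G := by
  have e1 : Nat.card {y : G // IsConj x y} = Nat.card (MulAction.orbit (ConjAct G) x) :=
    Nat.card_congr (Equiv.subtypeEquivRight fun y => (ConjAct.mem_orbit_conjAct.trans isConj_comm).symm)
  have e2 : Nat.card (Subgroup.centralizer ({x} : Set G)) = Nat.card (MulAction.stabilizer (ConjAct G) x) :=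
    Nat.card_congr (Equiv.subtypeEquiv ConjAct.toConjAct.toEquiv fun g => by
      rw [Subgroup.mem_centralizer_singleton_iff, MulAction.mem_stabilizer_iff]
      show g * x = x * g ↔ ConjAct.toConjAct g • x = x
      rw [ConjAct.toConjAct_smul, mul_inv_eq_iff_eq_mul])
  rw [e1, e2, Nat.card_congr (MulAction.orbitEquivQuotientStabilizer (ConjAct G) x),
    ← Subgroup.card_eq_card_quotient_mul_card_subgroup]
  exact Nat.card_congr ConjAct.ofConjAct.toEquiv

theorem orderOf_conj' (g x : G) : orderOf (g * x * g⁻¹) = orderOf x :=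
  (MulAut.conj g).orderOf_eq x

/-- If all elements of order divisible by `p` have order `p`, a `p`-subgroup acts freely on the elements
of any other order, except the identity. -/
theorem dvd_cnt_of_isolated {p : ℕ} (hp : p.Prime) (hiso : ∀ x : G, p ∣ orderOf x → orderOf x = p)
    (U : Subgroup G) (hU : IsPGroup p U) {n : ℕ} (hn1 : n ≠ 1) (hnp : ¬ p ∣ n) :
    Nat.card U ∣ cnt G n := by
  have := Fact.mk hp
  let _ : MulAction U {g : G // orderOf g = n} :=
    { smul := fun u x => ⟨(u : G) * x * (u : G)⁻¹, (orderOf_conj' _ _).trans x.2⟩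
      one_smul := fun x => Subtype.ext (show ((1 : U) : G) * x * ((1 : U) : G)⁻¹ = x by simp)
      mul_smul := fun u v x => Subtype.ext (show ((u * v : U) : G) * x * ((u * v : U) : G)⁻¹
        = (u : G) * ((v : G) * x * (v : G)⁻¹) * (u : G)⁻¹ by push_cast; group) }
  have hfree : ∀ x : {g : G // orderOf g = n}, MulAction.stabilizer U x = ⊥ := by
    intro x
    refine (Subgroup.eq_bot_iff_forall _).2 fun u hu => ?_
    by_contra h1
    have hux : (u : G) * x * (u : G)⁻¹ = x := congrArg Subtype.val (MulAction.mem_stabilizer_iff.1 hu)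
    have hc : Commute (u : G) x := mul_inv_eq_iff_eq_mul.1 hux
    obtain ⟨k, hk⟩ := hU u
    have hk' : orderOf (u : G) ∣ p ^ k := orderOf_dvd_of_pow_eq_one (by rw [← Subgroup.coe_pow, hk]; rfl)
    obtain ⟨j, -, hj⟩ := (Nat.dvd_prime_pow hp).1 hk'
    have hcop : (orderOf (u : G)).Coprime (orderOf (x : G)) := by
      rw [x.2, hj]
      exact Nat.Coprime.pow_left _ ((hp.coprime_iff_not_dvd).2 hnp)
    have hord := hc.orderOf_mul_eq_mul_orderOf_of_coprime hcop
    have hj0 : j ≠ 0 := fun e => h1 (Subtype.ext (orderOf_eq_one_iff.1 (by rw [hj, e, pow_zero])))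
    have hpu : p ∣ orderOf (u : G) := hj ▸ dvd_pow_self p hj0
    have h2 := hiso _ (hord ▸ hpu.mul_right _)
    rw [hord, hiso _ hpu, x.2] at h2
    exact hn1 (Nat.eq_of_mul_eq_mul_left hp.pos (h2.trans (mul_one p).symm))
  rw [cnt, Nat.card_congr (MulAction.selfEquivOrbitsQuotientProd hfree), Nat.card_prod]
  exact dvd_mul_left _ _

theorem sum_cnt : ∑ d ∈ (Nat.card G).divisors, cnt G d = Nat.card G := by
  classical
  have := Fintype.ofFinite G
  rw [Nat.card_eq_fintype_card]
  conv_rhs => rw [← Finset.card_univ,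
    Finset.card_eq_sum_card_fiberwise (f := (orderOf : G → ℕ)) (t := (Fintype.card G).divisors)
      (fun g _ => Nat.mem_divisors.2 ⟨orderOf_dvd_card, Fintype.card_ne_zero⟩)]
  refine Finset.sum_congr rfl fun d _ => ?_
  rw [cnt, Nat.card_eq_fintype_card, Fintype.card_subtype]

theorem isolated_of_counts {q p f : ℕ} (hp : p.Prime) (hp2 : p ≠ 2) (hf : 0 < f) (hq : q = p ^ f)
    (hG : Nat.card G = q * (q ^ 2 - 1)) (hsq : ∃ n, cnt G n = q ^ 2)
    (hval : ∀ n, cnt G n ≠ 0 → cnt G n = 1 ∨ cnt G n = q ^ 2 - 1 ∨ q ∣ cnt G n) :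
    cnt G 2 = q ^ 2 ∧ cnt G p = q ^ 2 - 1 ∧ ∀ x : G, p ∣ orderOf x → orderOf x = p := by
  classical
  have := Fact.mk hp
  have hp1 := hp.one_lt
  have hpq : p ∣ q := hq ▸ dvd_pow_self p hf.ne'
  have hq2 : 2 ≤ q := le_trans hp.two_le (Nat.le_of_dvd (hq ▸ pow_pos hp.pos f) hpq)
  have hqo : Odd q := hq ▸ (hp.odd_of_ne_two hp2).pow
  have hQ1 : 1 < q ^ 2 := by nlinarith
  obtain ⟨m, hm⟩ : ∃ m, q ^ 2 = m + 1 := ⟨q ^ 2 - 1, by omega⟩
  have hm' : q ^ 2 - 1 = m := by omega
  rw [hm'] at hG hval ⊢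
  have hm3 : 3 ≤ m := by nlinarith
  have hpm : ¬ p ∣ m := fun h => hp.not_dvd_one ((Nat.dvd_add_right h).1 (hm ▸ dvd_pow hpq two_ne_zero))
  have hp0 : cnt G 0 = 0 := by
    by_contra h
    obtain ⟨g, hg⟩ := (cnt_ne_zero_iff 0).1 h
    exact (orderOf_pos g).ne' hg
  -- involutions
  have h2 : cnt G 2 = q ^ 2 := by
    obtain ⟨n, hn⟩ := hsq
    rcases (show n = 0 ∨ n = 1 ∨ n = 2 ∨ 3 ≤ n by omega) with rfl | rfl | rfl | h
    · rw [hp0] at hn; omega
    · rw [cnt_one] at hn; omega
    · exact hn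
    · exact absurd (hn ▸ cnt_even h : Even (q ^ 2)) (Nat.not_even_iff_odd.2 hqo.pow)
  -- elements of order `p`
  have hsp : cnt G p = m := by
    have hd : p ∣ Nat.card G := hG ▸ hpq.mul_right _
    have h1 := zmod_one (G := G) (p := p) hd
    have h1' : p ∣ 1 + cnt G p := (ZMod.natCast_eq_zero_iff _ _).1 (by push_cast; exact h1)
    rcases hval p (fun e => by rw [e] at h1'; exact hp.not_dvd_one h1') with h | h | h
    · rw [h] at h1'
      exact absurd ((Nat.prime_dvd_prime_iff_eq hp Nat.prime_two).1 h1') hp2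
    · exact h
    · exact absurd ((Nat.dvd_add_left (hpq.trans h)).1 h1') hp.not_dvd_one
  -- the other multiplicities
  have hcast : ∀ n, n ≠ 1 → cnt G n ≠ m → (cnt G n : ZMod q) = 0 := by
    intro n hn hnm
    by_cases h0 : cnt G n = 0
    · rw [h0, Nat.cast_zero]
    rcases hval n h0 with h | h | h
    · rcases (show n = 0 ∨ n = 2 ∨ 3 ≤ n by omega) with rfl | rfl | hn3
      · exact absurd hp0 h0
      · rw [h2] at h; omega
      · exact absurd (h ▸ cnt_even hn3 : Even 1) (by decide)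
    · exact absurd h hnm
    · exact (ZMod.natCast_eq_zero_iff _ _).2 h
  set D := (Nat.card G).divisors
  have hmq : (m : ZMod q) = -1 := by
    have h1 : ((m + 1 : ℕ) : ZMod q) = 0 := (ZMod.natCast_eq_zero_iff _ _).2 (hm ▸ dvd_pow_self q two_ne_zero)
    push_cast at h1
    linear_combination h1
  set T := D.filter fun n => cnt G n = m with hT
  have hpT : p ∈ T := Finset.mem_filter.2 ⟨Nat.mem_divisors.2 ⟨hG ▸ hpq.mul_right _, Nat.card_pos.ne'⟩, hsp⟩
  have hother : ∀ n, n ≠ 1 → n ≠ p → q ∣ cnt G n := by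
    have h1D : 1 ∈ D := Nat.mem_divisors.2 ⟨one_dvd _, Nat.card_pos.ne'⟩
    have hsum : ((Nat.card G : ℕ) : ZMod q) = 1 - (T.card : ZMod q) := by
      have key : ∀ n ∈ D, (cnt G n : ZMod q) = (if n = 1 then 1 else 0) - (if cnt G n = m then 1 else 0) := by
        intro n _
        by_cases h : n = 1
        · subst h; rw [cnt_one, if_pos rfl, if_neg (by omega)]; simp
        · rw [if_neg h]
          by_cases h' : cnt G n = m
          · rw [h', if_pos rfl, hmq]; ring
          · rw [if_neg h', hcast n h h']; ring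
      rw [← sum_cnt, Nat.cast_sum, Finset.sum_congr rfl key, Finset.sum_sub_distrib, Finset.sum_ite_eq',
        if_pos h1D, Finset.sum_boole]
    have hG0 : ((Nat.card G : ℕ) : ZMod q) = 0 := (ZMod.natCast_eq_zero_iff _ _).2 (hG ▸ Dvd.intro _ rfl)
    rw [hG0, eq_comm, sub_eq_zero] at hsum
    have hle : T.card * m + 1 ≤ q * m := by
      have e1 := Finset.sum_sdiff (f := cnt G) (show T ⊆ D from Finset.filter_subset _ D)
      have e2 : ∑ n ∈ T, cnt G n = T.card * m := Finset.sum_const_nat fun n hn => (Finset.mem_filter.1 hn).2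
      have e3 : ∑ n ∈ D, cnt G n = q * m := sum_cnt.trans hG
      have h1 : 1 ≤ ∑ n ∈ D \ T, cnt G n := by
        refine le_trans (cnt_one (G := G)).symm.le (Finset.single_le_sum (fun _ _ => Nat.zero_le _)
          (Finset.mem_sdiff.2 ⟨h1D, fun h => ?_⟩))
        have := (Finset.mem_filter.1 h).2
        rw [cnt_one] at this; omega
      omega
    have hTq : T.card < q := by
      by_contra h
      have := Nat.mul_le_mul_right m (not_lt.1 h)
      omega
    have hT1 : T.card = 1 := by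
      have h := congrArg ZMod.val hsum
      have := Fact.mk (show 1 < q by omega)
      rw [ZMod.val_one, ZMod.val_natCast_of_lt hTq] at h
      omega
    obtain ⟨a, ha⟩ := Finset.card_eq_one.1 hT1
    intro n hn1 hnp
    by_cases hnm : cnt G n = m
    · exfalso
      obtain ⟨g, hg⟩ := (cnt_ne_zero_iff (G := G) n).1 (by omega)
      have hnT : n ∈ T := Finset.mem_filter.2 ⟨Nat.mem_divisors.2 ⟨hg ▸ orderOf_dvd_natCard g,
        Nat.card_pos.ne'⟩, hnm⟩
      rw [ha, Finset.mem_singleton] at hnT hpT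
      exact hnp (hnT.trans hpT.symm)
    · exact (ZMod.natCast_eq_zero_iff _ _).1 (hcast n hn1 hnm)
  -- Frobenius
  have hmG : m ∣ Nat.card G := hG ▸ Dvd.intro_left _ rfl
  have hsub : m.divisors ⊆ D := Nat.divisors_subset_of_dvd Nat.card_pos.ne' hmG
  set S := ∑ d ∈ D \ m.divisors, cnt G d with hS
  set M := ∑ d ∈ m.divisors, cnt G d with hM
  have hSM : S + M = q * m := by rw [hS, hM, Finset.sum_sdiff hsub, sum_cnt, hG]
  have hpS : p ∈ D \ m.divisors := Finset.mem_sdiff.2 ⟨Nat.mem_divisors.2 ⟨hG ▸ hpq.mul_right _,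
    Nat.card_pos.ne'⟩, fun h => hpm (Nat.mem_divisors.1 h).1⟩
  set R := ∑ d ∈ (D \ m.divisors).erase p, cnt G d with hR
  have hSR : S = m + R := by rw [hS, hR, ← Finset.add_sum_erase _ _ hpS, hsp]
  have hmS : m ∣ S := (Nat.dvd_add_left (hM ▸ dvd_sum_divisors hmG)).1 (hSM ▸ Dvd.intro_left _ rfl)
  obtain ⟨j, hj⟩ : m ∣ R := (Nat.dvd_add_right dvd_rfl).1 (hSR ▸ hmS)
  have hqR : q ∣ R := by
    refine Finset.dvd_sum fun d hd => ?_
    obtain ⟨hdp, hd⟩ := Finset.mem_erase.1 hd
    refine hother d (fun e => (Finset.mem_sdiff.1 hd).2 ?_) hdp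
    rw [e]; exact Nat.mem_divisors.2 ⟨one_dvd _, by omega⟩
  have hqm : q.Coprime m := hq ▸ Nat.Coprime.pow_left _ ((hp.coprime_iff_not_dvd).2 hpm)
  have hqj : q ∣ j := hqm.dvd_of_dvd_mul_left (hj ▸ hqR)
  have hMpos : 1 ≤ M := le_trans (cnt_one (G := G)).symm.le (Finset.single_le_sum
    (fun d _ => Nat.zero_le _) (Nat.mem_divisors.2 ⟨one_dvd _, by omega⟩))
  have hj0 : j = 0 := by
    rcases Nat.eq_zero_or_pos j with h | h
    · exact h
    · have := Nat.mul_le_mul_left m (Nat.le_of_dvd h hqj)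
      rw [mul_comm m q] at this
      omega
  refine ⟨h2, hsp, fun x hx => ?_⟩
  by_contra hxp
  have hxd : orderOf x ∈ (D \ m.divisors).erase p := Finset.mem_erase.2 ⟨hxp, Finset.mem_sdiff.2
    ⟨Nat.mem_divisors.2 ⟨orderOf_dvd_natCard x, Nat.card_pos.ne'⟩,
      fun h => hpm (hx.trans (Nat.mem_divisors.1 h).1)⟩⟩
  have hle := Finset.single_le_sum (f := cnt G) (fun d _ => Nat.zero_le _) hxd
  rw [← hR, hj, hj0, mul_zero] at hle
  exact (cnt_ne_zero_iff (orderOf x)).2 ⟨x, rfl⟩ (Nat.le_zero.1 hle)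

end Cfsg.Lib.NseProjLine
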