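import Cfsg.Agent.NseProjLine.Counting
import Cfsg.Agent.RankOne.SharpPGL
import Mathlib

/-!
A group of order `q (q² - 1)` with `q²` involutions and `q² - 1` elements of order `p`, all elements of
order divisible by `p` having order `p`, is `PGL(2, q)`: its action on the Sylow `p`-subgroups is sharply
triply transitive with abelian two-point stabilisers.
-/

set_option autoImplicit false
set_option linter.unusedSectionVars false

namespace Cfsg.Lib.NseProjLine

open MulAction
open Cfsg.Lib.OddChar.Zassenhaus (stab₂)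
open Cfsg.Lib.SameOrder (cnt)

universe u

variable {G : Type u} [Group G] [Finite G] {p f q : ℕ}

/-- The arithmetic hypotheses. -/
structure Hyp (G : Type u) [Group G] (p f q : ℕ) : Prop where
  prime : p.Prime
  odd : p ≠ 2
  pos : 0 < f
  hq : q = p ^ f
  large : 3 < q
  card : Nat.card G = q * (q ^ 2 - 1)
  two : cnt G 2 = q ^ 2
  cntp : cnt G p = q ^ 2 - 1
  iso : ∀ x : G, p ∣ orderOf x → orderOf x = p

variable (H : Hyp G p f q)
include H

theorem Hyp.qpos : 0 < q := lt_trans (by norm_num) H.large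

theorem Hyp.not_dvd : ¬ p ∣ q ^ 2 - 1 := fun h => by
  have h2 : p ∣ q ^ 2 := dvd_pow (H.hq ▸ dvd_pow_self p H.pos.ne') two_ne_zero
  exact H.prime.not_dvd_one ((Nat.dvd_sub_iff_right (Nat.one_le_pow _ _ H.qpos) h2).1 h)

theorem Hyp.card_centralizer {x : G} (hx : orderOf x = p) :
    Nat.card (Subgroup.centralizer ({x} : Set G)) = q ∧ ∀ y : G, orderOf y = p → IsConj x y := by
  classical
  have hp := H.prime
  have := Fact.mk hp
  set C := Subgroup.centralizer ({x} : Set G)
  have hC : IsPGroup p C := fun y => ⟨1, Subtype.ext (by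
    rw [pow_one, Subgroup.coe_pow, Subgroup.coe_one]
    by_cases hd : p ∣ orderOf (y : G)
    · rw [← H.iso _ hd, pow_orderOf_eq_one]
    · have hc : Commute x (y : G) := (Subgroup.mem_centralizer_singleton_iff.1 y.2).symm
      have h1 := hc.orderOf_mul_eq_mul_orderOf_of_coprime (hx.symm ▸ (hp.coprime_iff_not_dvd).2 hd)
      have h2 := H.iso _ (show p ∣ orderOf (x * (y : G)) by rw [h1, hx]; exact dvd_mul_right p _)
      rw [h1, hx] at h2
      rw [orderOf_eq_one_iff.1 (Nat.eq_of_mul_eq_mul_left hp.pos (h2.trans (mul_one p).symm)), one_pow])⟩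
  obtain ⟨k, hk⟩ := IsPGroup.iff_card.1 hC
  have hdq : Nat.card C ∣ q := (Nat.Coprime.dvd_mul_right (hk ▸ Nat.Coprime.pow_left _
    ((hp.coprime_iff_not_dvd).2 H.not_dvd))).1 (H.card ▸ C.card_subgroup_dvd_card)
  have hmul := card_conj_mul x
  rw [H.card] at hmul
  let ι : {y : G // IsConj x y} → {y : G // orderOf y = p} := fun y => ⟨y, by
    obtain ⟨g, hg⟩ := isConj_iff.1 y.2
    rw [← hg, orderOf_conj', hx]⟩
  have hι : Function.Injective ι := fun a b h => Subtype.ext (congrArg Subtype.val h :)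
  have hle : Nat.card {y : G // IsConj x y} ≤ q ^ 2 - 1 := (Nat.card_le_card_of_injective ι hι).trans H.cntp.le
  have hCq : Nat.card C = q := by
    refine le_antisymm (Nat.le_of_dvd H.qpos hdq) (Nat.le_of_mul_le_mul_left ?_
      (show 0 < q ^ 2 - 1 by have := Nat.one_lt_pow (two_ne_zero) (show 1 < q by have := H.large; omega); omega))
    rw [mul_comm, ← hmul]
    exact Nat.mul_le_mul_right _ hle
  refine ⟨hCq, fun y hy => ?_⟩
  have hb := hι.bijective_of_nat_card_le (by
    have h1 : cnt G p = Nat.card {y : G // IsConj x y} := by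
      rw [H.cntp]
      rw [hCq, mul_comm q] at hmul
      exact (Nat.eq_of_mul_eq_mul_right H.qpos hmul).symm
    exact h1.le)
  obtain ⟨z, hz⟩ := hb.2 ⟨y, hy⟩
  have hzy : (z : G) = y := congrArg Subtype.val hz
  exact hzy ▸ z.2

theorem Hyp.order_of_mem {P : Sylow p G} {x : G} (hx : x ∈ P) (hx1 : x ≠ 1) : orderOf x = p := by
  have := Fact.mk H.prime
  obtain ⟨k, hk⟩ := P.isPGroup' ⟨x, hx⟩
  obtain ⟨j, -, hj⟩ := (Nat.dvd_prime_pow H.prime).1
    (orderOf_dvd_of_pow_eq_one (show x ^ p ^ k = 1 from congrArg Subtype.val hk))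
  refine H.iso x (hj ▸ dvd_pow_self p fun e => hx1 (orderOf_eq_one_iff.1 ?_))
  rw [hj, e, pow_zero]

theorem Hyp.card_sylow_q (P : Sylow p G) : Nat.card P = q := by
  have := Fact.mk H.prime
  have hq1 : q ^ 2 - 1 ≠ 0 := fun e => H.not_dvd (e ▸ dvd_zero p)
  rw [Sylow.card_eq_multiplicity, H.card, Nat.factorization_mul H.qpos.ne' hq1, Finsupp.add_apply,
    Nat.factorization_eq_zero_of_not_dvd H.not_dvd, add_zero, H.hq, H.prime.factorization_pow,
    Finsupp.single_eq_same]

theorem Hyp.card_sylow_q' (P : Sylow p G) : Nat.card {x : G // x ∈ P} = q := H.card_sylow_q P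

/-- Every Sylow `p`-subgroup is abelian and is inverted by an involution. -/
theorem Hyp.sylow_facts (P : Sylow p G) :
    (∀ x ∈ P, ∀ y ∈ P, x * y = y * x) ∧
      ∃ t : G, t * t = 1 ∧ t ≠ 1 ∧ t • P = P := by
  classical
  have hp := H.prime
  have := Fact.mk hp
  have hnt : Nontrivial P := Finite.one_lt_card_iff_nontrivial.1 (by rw [H.card_sylow_q]; have := H.large; omega)
  have := P.isPGroup'.center_nontrivial
  obtain ⟨⟨⟨z, hz⟩, hzc⟩, hz1⟩ := exists_ne (1 : Subgroup.center P)
  have hz1' : z ≠ 1 := fun e => hz1 (Subtype.ext (Subtype.ext e))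
  have hzp := H.order_of_mem hz hz1'
  have hCz : Subgroup.centralizer ({z} : Set G) = P := by
    refine (Subgroup.eq_of_le_of_card_ge (fun x hx => ?_)
      (by rw [(H.card_centralizer hzp).1, H.card_sylow_q P])).symm
    exact Subgroup.mem_centralizer_singleton_iff.2
      (congrArg Subtype.val (Subgroup.mem_center_iff.1 hzc ⟨x, hx⟩) :)
  obtain ⟨g, hg⟩ := isConj_iff.1 ((H.card_centralizer hzp).2 z⁻¹ (by rw [orderOf_inv, hzp]))
  have hgP : g • P = P := by
    refine Sylow.smul_eq_iff_mem_normalizer.2 (Subgroup.mem_normalizer_fintype fun n hn => ?_)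
    have hnz : n * z = z * n := Subgroup.mem_centralizer_singleton_iff.1 (hCz.symm ▸ hn)
    show _ ∈ (P : Subgroup G)
    rw [← hCz]
    refine Subgroup.mem_centralizer_singleton_iff.2 ?_
    have hgz : g * z⁻¹ * g⁻¹ = z := by
      rw [show g * z⁻¹ * g⁻¹ = (g * z * g⁻¹)⁻¹ by group, hg, inv_inv]
    have h := ((show Commute n z from hnz).inv_right.map (MulAut.conj g).toMonoidHom).eq
    rw [MulEquiv.coe_toMonoidHom, MulAut.conj_apply, MulAut.conj_apply, hgz] at h
    exact h
  have hg2 : g * g ∈ P := by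
    have hgg : g * g * z * (g * g)⁻¹ = z := by
      rw [show g * g * z * (g * g)⁻¹ = g * (g * z * g⁻¹) * g⁻¹ by group, hg,
        show g * z⁻¹ * g⁻¹ = (g * z * g⁻¹)⁻¹ by group, hg, inv_inv]
    have : g * g ∈ Subgroup.centralizer ({z} : Set G) :=
      Subgroup.mem_centralizer_singleton_iff.2 (mul_inv_eq_iff_eq_mul.1 hgg)
    rwa [hCz] at this
  have hgP' : g ∉ P := fun h => by
    have hgz : g ∈ Subgroup.centralizer ({z} : Set G) := hCz.symm ▸ h
    have h1 : z = z⁻¹ := by
      rw [← hg]; exact (mul_inv_eq_iff_eq_mul.2 (Subgroup.mem_centralizer_singleton_iff.1 hgz)).symm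
    have h2 : orderOf z ∣ 2 := orderOf_dvd_of_pow_eq_one (by rw [sq, mul_eq_one_iff_eq_inv]; exact h1)
    rw [hzp] at h2
    exact H.odd ((Nat.prime_dvd_prime_iff_eq hp Nat.prime_two).1 h2)
  have hgsq : g * g = 1 := by
    by_contra hne
    have h1 := H.order_of_mem hg2 hne
    have h2 : p ∣ orderOf g := by
      rw [← h1, ← sq]; exact orderOf_pow_dvd 2
    have h3 := H.iso g h2
    obtain ⟨j, hj⟩ := (hp.odd_of_ne_two H.odd)
    have h4 : g = (g * g) ^ (j + 1) := by
      rw [← sq, ← pow_mul, show 2 * (j + 1) = p + 1 by omega, pow_succ, ← h3, pow_orderOf_eq_one, one_mul]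
    exact hgP' (h4 ▸ pow_mem hg2 _)
  have hg1 : g ≠ 1 := fun e => hgP' (e ▸ P.one_mem)
  refine ⟨?_, g, hgsq, hg1, hgP⟩
  have hnorm : g ∈ Subgroup.normalizer (P : Set G) := Sylow.smul_eq_iff_mem_normalizer.1 hgP
  let φ : P →* P := ((Subgroup.normalizerMonoidHom (P : Subgroup G) ⟨g, hnorm⟩ : MulAut P)).toMonoidHom
  have hφ : ∀ x : P, ((φ x : P) : G) = g * x * g⁻¹ := fun x => rfl
  have hfpf : MonoidHom.FixedPointFree φ := fun x hx => by
    by_contra hx1
    have hx1' : (x : G) ≠ 1 := fun e => hx1 (Subtype.ext e)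
    have hxp := H.order_of_mem x.2 hx1'
    have hc : Commute g (x : G) := mul_inv_eq_iff_eq_mul.1 ((hφ x).symm.trans (congrArg Subtype.val hx))
    have hg2' : orderOf g = 2 := orderOf_eq_prime (by rw [sq]; exact hgsq) hg1
    have h1 := hc.orderOf_mul_eq_mul_orderOf_of_coprime (by
      rw [hg2', hxp]; exact (Nat.coprime_primes Nat.prime_two hp).2 (Ne.symm H.odd))
    have h2 := H.iso _ (show p ∣ orderOf (g * (x : G)) by rw [h1, hxp]; exact dvd_mul_left p _)
    rw [h1, hg2', hxp] at h2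
    have := hp.pos; omega
  have hinv : Function.Involutive φ := fun x => Subtype.ext (by
    rw [hφ, hφ, show g * (g * (x : G) * g⁻¹) * g⁻¹ = g * g * x * (g * g)⁻¹ by group, hgsq]; group)
  exact fun x hx y hy => congrArg Subtype.val (hfpf.commute_all_of_involutive hinv ⟨x, hx⟩ ⟨y, hy⟩).eq

theorem Hyp.centralizer_eq {P : Sylow p G} {x : G} (hx : x ∈ P) (hx1 : x ≠ 1) :
    Subgroup.centralizer ({x} : Set G) = P :=
  (Subgroup.eq_of_le_of_card_ge
    (fun y hy => Subgroup.mem_centralizer_singleton_iff.2 ((H.sylow_facts P).1 y hy x hx))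
    (by rw [(H.card_centralizer (H.order_of_mem hx hx1)).1, H.card_sylow_q P])).symm

theorem Hyp.eq_of_mem {P Q : Sylow p G} {x : G} (hP : x ∈ P) (hQ : x ∈ Q) (hx1 : x ≠ 1) : P = Q :=
  Sylow.ext ((H.centralizer_eq hP hx1).symm.trans (H.centralizer_eq hQ hx1))

theorem Hyp.card_sylow_set : Nat.card (Sylow p G) = q + 1 := by
  classical
  have hp := H.prime
  have := Fact.mk hp
  let e : (Σ P : Sylow p G, {x : P // x ≠ 1}) → {x : G // orderOf x = p} := fun s =>
    ⟨(s.2.1 : G), H.order_of_mem s.2.1.2 fun h => s.2.2 (Subtype.ext h)⟩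
  have he : Function.Bijective e := by
    constructor
    · rintro ⟨P, ⟨x, hx⟩, hx1⟩ ⟨Q, ⟨y, hy⟩, hy1⟩ h
      have hxy : x = y := congrArg Subtype.val h
      subst hxy
      obtain rfl := H.eq_of_mem hx hy fun h => hx1 (Subtype.ext h)
      rfl
    · rintro ⟨x, hx⟩
      obtain ⟨Q, hQ⟩ := IsPGroup.exists_le_sylow
        (IsPGroup.of_card (n := 1) (by rw [Nat.card_zpowers, hx, pow_one]) : IsPGroup p (Subgroup.zpowers x))
      refine ⟨⟨Q, ⟨x, hQ (Subgroup.mem_zpowers x)⟩, fun h => ?_⟩, Subtype.ext rfl⟩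
      have hx1 : x = 1 := congrArg Subtype.val h
      rw [hx1, orderOf_one] at hx
      exact hp.one_lt.ne hx
  have h := Nat.card_eq_of_bijective e he
  have hP : ∀ P : Sylow p G, Nat.card {x : P // x ≠ 1} = q - 1 := fun P => by
    have := Fintype.ofFinite P
    rw [Nat.card_eq_fintype_card, Fintype.card_subtype_compl, Fintype.card_subtype_eq,
      ← Nat.card_eq_fintype_card, H.card_sylow_q' P]
  have := Fintype.ofFinite (Sylow p G)
  rw [Nat.card_sigma, Finset.sum_congr rfl (fun P _ => hP P), Finset.sum_const, smul_eq_mul,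
    Finset.card_univ, ← Nat.card_eq_fintype_card] at h
  rw [show Nat.card {x : G // orderOf x = p} = q ^ 2 - 1 from H.cntp] at h
  obtain ⟨k, rfl⟩ : ∃ k, q = k + 2 := ⟨q - 2, by have := H.large; omega⟩
  refine Nat.eq_of_mul_eq_mul_right (show 0 < k + 2 - 1 by omega) (h.trans ?_)
  rw [show (k + 2) ^ 2 - 1 = (k + 3) * (k + 1) by ring_nf; omega, show k + 2 - 1 = k + 1 from rfl]

theorem Hyp.smul_self {P : Sylow p G} {x : G} (hx : x ∈ P) : x • P = P :=
  Sylow.smul_eq_iff_mem_normalizer.2 (Subgroup.le_normalizer hx)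

theorem Hyp.free {P Q : Sylow p G} (hPQ : P ≠ Q) {x : G} (hx : x ∈ P) (h : x • Q = Q) : x = 1 := by
  have := Fact.mk H.prime
  by_contra hx1
  have h1 : x ∈ (P : Subgroup G) ⊓ Subgroup.normalizer (Q : Set G) := ⟨hx, Sylow.smul_eq_iff_mem_normalizer.1 h⟩
  rw [P.isPGroup'.inf_normalizer_sylow Q] at h1
  exact hPQ (H.eq_of_mem hx h1.2 hx1)

theorem Hyp.regular {P Q R : Sylow p G} (hQ : Q ≠ P) (hR : R ≠ P) : ∃ x ∈ P, x • Q = R := by
  classical
  have := Fintype.ofFinite (Sylow p G)
  let m : P → {S : Sylow p G // S ≠ P} := fun x => ⟨(x : G) • Q, fun h => hQ (by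
    rw [← inv_smul_smul (x : G) Q, h, H.smul_self (inv_mem x.2)])⟩
  have hm : Function.Injective m := fun x y h => by
    have h' : (x : G) • Q = (y : G) • Q := congrArg Subtype.val h
    have := H.free hQ.symm (mul_mem (inv_mem y.2) x.2) (by rw [mul_smul, h', inv_smul_smul])
    exact Subtype.ext (inv_mul_eq_one.1 this).symm
  obtain ⟨x, hx⟩ := (hm.bijective_of_nat_card_le (by
    rw [Nat.card_eq_fintype_card, Fintype.card_subtype_compl, Fintype.card_subtype_eq,
      ← Nat.card_eq_fintype_card, H.card_sylow_set, H.card_sylow_q' P]; omega)).2 ⟨R, hR⟩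
  exact ⟨x, x.2, congrArg Subtype.val hx⟩

theorem Hyp.fix_three {g : G} {P Q R : Sylow p G} (hPQ : P ≠ Q) (hPR : P ≠ R) (hQR : Q ≠ R)
    (hP : g • P = P) (hQ : g • Q = Q) (hR : g • R = R) : g = 1 := by
  obtain ⟨x, hx, hxQ⟩ := H.regular hPQ.symm hPR.symm
  have hx1 : x ≠ 1 := fun e => hQR (by rw [← hxQ, e, one_smul])
  have hgx : g * x * g⁻¹ ∈ P := by
    rw [show g * x * g⁻¹ = MulAut.conj g x from rfl]
    have h1 : MulAut.conj g x ∈ ((g • P : Sylow p G) : Subgroup G) := by
      rw [Sylow.coe_subgroup_smul]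
      exact Subgroup.smul_mem_pointwise_smul _ _ _ hx
    rwa [hP] at h1
  have hkey : (g * x * g⁻¹) • Q = x • Q := by
    rw [mul_smul, mul_smul, inv_smul_eq_iff.2 hQ.symm, hxQ, hR]
  have h2 := H.free hPQ (mul_mem (inv_mem hx) hgx) (by rw [mul_smul, hkey, inv_smul_smul])
  have hgC : g ∈ Subgroup.centralizer ({x} : Set G) :=
    Subgroup.mem_centralizer_singleton_iff.2 (mul_inv_eq_iff_eq_mul.1 (inv_mul_eq_one.1 h2).symm)
  rw [H.centralizer_eq hx hx1] at hgC
  exact H.free hPQ hgC hQ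

theorem Hyp.two_transitive : IsMultiplyPretransitive G (Sylow p G) 2 := by
  have := Fact.mk H.prime
  refine is_two_pretransitive_iff.2 fun {a b c d} hab hcd => ?_
  obtain ⟨g, hg⟩ := MulAction.exists_smul_eq G a c
  obtain ⟨x, hx, hxd⟩ := H.regular (P := c) (Q := g • b) (R := d)
    (fun h => hab (smul_left_cancel g (hg.trans h.symm))) hcd.symm
  exact ⟨x * g, by rw [mul_smul, hg, H.smul_self hx], by rw [mul_smul, hxd]⟩

theorem Hyp.exists_third (a b : Sylow p G) : ∃ c, c ≠ a ∧ c ≠ b := by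
  classical
  have := Fintype.ofFinite (Sylow p G)
  obtain ⟨c, -, hc⟩ := Finset.exists_mem_notMem_of_card_lt_card (s := ({a, b} : Finset (Sylow p G)))
    (t := Finset.univ) (by
      rw [Finset.card_univ, ← Nat.card_eq_fintype_card, H.card_sylow_set]
      have := H.large
      exact lt_of_le_of_lt Finset.card_le_two (by omega))
  simp only [Finset.mem_insert, Finset.mem_singleton, not_or] at hc
  exact ⟨c, hc⟩

theorem Hyp.card_stab₂ {a b : Sylow p G} (hab : a ≠ b) : Nat.card (stab₂ G a b) = q - 1 := by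
  have := Fact.mk H.prime
  let m : a × stab₂ G a b → stabilizer G a := fun s => ⟨(s.1 : G) * s.2, mem_stabilizer_iff.2 (by
    rw [mul_smul, mem_stabilizer_iff.1 s.2.2.1, H.smul_self s.1.2])⟩
  have hm : Function.Bijective m := by
    constructor
    · rintro ⟨⟨x, hx⟩, ⟨u, hu⟩⟩ ⟨⟨y, hy⟩, ⟨v, hv⟩⟩ h
      have h' : x * u = y * v := congrArg Subtype.val h
      have h1 := H.free hab (mul_mem (inv_mem hy) hx) (by
        rw [show y⁻¹ * x = v * u⁻¹ by rw [inv_mul_eq_iff_eq_mul, ← mul_assoc, ← h', mul_inv_cancel_right]]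
        rw [mul_smul, inv_smul_eq_iff.2 (mem_stabilizer_iff.1 hu.2).symm]
        exact hv.2)
      have hxy : x = y := (inv_mul_eq_one.1 h1).symm
      subst hxy
      have huv : u = v := mul_left_cancel h'
      subst huv
      rfl
    · rintro ⟨g, hg⟩
      have hga : g • a = a := hg
      obtain ⟨x, hx, hxb⟩ := H.regular (P := a) (Q := b) (R := g • b) hab.symm
        (fun h => hab (smul_left_cancel g (hga.trans h.symm)))
      refine ⟨⟨⟨x, hx⟩, ⟨x⁻¹ * g, Subgroup.mem_inf.2 ⟨mem_stabilizer_iff.2 ?_, mem_stabilizer_iff.2 ?_⟩⟩⟩,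
        Subtype.ext (mul_inv_cancel_left x g)⟩
      · rw [mul_smul, hga, H.smul_self (inv_mem hx)]
      · rw [mul_smul, ← hxb, inv_smul_smul]
  have h1 := Nat.card_eq_of_bijective m hm
  rw [Nat.card_prod, H.card_sylow_q a] at h1
  have h2 := (stabilizer G a).card_mul_index
  rw [MulAction.index_stabilizer_of_transitive, H.card_sylow_set, ← h1, H.card] at h2
  obtain ⟨k, rfl⟩ : ∃ k, q = k + 2 := ⟨q - 2, by have := H.large; omega⟩
  refine Nat.eq_of_mul_eq_mul_right (show 0 < k + 2 + 1 by omega) ?_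
  refine Nat.eq_of_mul_eq_mul_left (show 0 < k + 2 by omega) ((mul_assoc _ _ _).symm.trans (h2.trans ?_))
  rw [show (k + 2) ^ 2 - 1 = (k + 3) * (k + 1) by ring_nf; omega, show k + 2 - 1 = k + 1 from rfl]
  ring

theorem Hyp.zassenhaus : Cfsg.IsZassenhausGroup G (Sylow p G) := by
  classical
  have hp := H.prime
  have := Fact.mk hp
  have := Fintype.ofFinite (Sylow p G)
  have hΩ : 2 < Nat.card (Sylow p G) := by rw [H.card_sylow_set]; have := H.large; omega
  obtain ⟨a, b, hab⟩ := Fintype.exists_pair_of_one_lt_card (α := Sylow p G)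
    (by rw [← Nat.card_eq_fintype_card]; omega)
  have hE := H.card_stab₂ hab
  refine ⟨⟨fun {g h} hgh => ?_⟩, H.two_transitive,
    fun g P Q R hPQ hQR hPR => H.fix_three hPQ hPR hQR, ?_, fun N hN hNt => ?_⟩
  · obtain ⟨c, hca, hcb⟩ := H.exists_third a b
    have hfix : ∀ P : Sylow p G, (h⁻¹ * g) • P = P := fun P => by rw [mul_smul, hgh, inv_smul_smul]
    exact (inv_mul_eq_one.1 (H.fix_three hab hca.symm hcb.symm (hfix a) (hfix b) (hfix c))).symm
  · have : Nontrivial (stab₂ G a b) := Finite.one_lt_card_iff_nontrivial.1 (by rw [hE]; have := H.large; omega)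
    obtain ⟨⟨g, hg⟩, hg1⟩ := exists_ne (1 : stab₂ G a b)
    exact ⟨g, fun e => hg1 (Subtype.ext e), a, b, hab, hg.1, hg.2⟩
  -- no regular normal subgroup
  by_contra hcon
  push Not at hcon
  have hreg : ∀ n ∈ N, n • a = a → n = 1 := fun n hn h => by
    have h1 : (⟨n, hn⟩ : N) ∈ stabilizer N a := h
    rw [hcon, Subgroup.mem_bot] at h1
    exact congrArg Subtype.val h1
  have hbij : Function.Bijective (fun n : N => (n : G) • a) := by
    refine ⟨fun m n h => ?_, fun c => ?_⟩
    · have h' : (m : G) • a = (n : G) • a := h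
      exact Subtype.ext (inv_mul_eq_one.1 (hreg _ (mul_mem (inv_mem n.2) m.2)
        (by rw [mul_smul, h', inv_smul_smul]))).symm
    · obtain ⟨n, hn⟩ := hNt.exists_smul_eq a c
      exact ⟨n, hn⟩
  have hNc : Nat.card N = q + 1 := (Nat.card_eq_of_bijective _ hbij).trans H.card_sylow_set
  -- the Sylow subgroup is transitive on the other elements
  have htr : ∀ m n : N, m ≠ 1 → n ≠ 1 → IsConj (m : G) n := by
    intro m n hm hn
    obtain ⟨x, hx, hxn⟩ := H.regular (P := a) (Q := (m : G) • a) (R := (n : G) • a)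
      (fun h => hm (hbij.1 (h.trans (one_smul G a).symm)))
      (fun h => hn (hbij.1 (h.trans (one_smul G a).symm)))
    refine isConj_iff.2 ⟨x, ?_⟩
    have h1 : (⟨x * m * x⁻¹, hN.conj_mem _ m.2 x⟩ : N) = n := hbij.1 (by
      show (x * m * x⁻¹) • a = (n : G) • a
      rw [mul_smul, mul_smul, H.smul_self (inv_mem hx), hxn])
    exact congrArg Subtype.val h1
  have hqo : Odd q := H.hq ▸ (hp.odd_of_ne_two H.odd).pow
  obtain ⟨s, hs⟩ := exists_prime_orderOf_dvd_card' (G := N) 2 (by rw [hNc]; exact (Odd.add_one hqo).two_dvd)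
  have hexp : ∀ n : N, n * n = 1 := by
    intro n
    rcases eq_or_ne n 1 with rfl | hn
    · simp
    have hs1 : s ≠ 1 := fun e => by rw [e, orderOf_one] at hs; omega
    obtain ⟨g, hg⟩ := isConj_iff.1 (htr s n hs1 hn)
    refine Subtype.ext ?_
    have hss : (s : G) * s = 1 := by
      have h1 : s ^ 2 = 1 := hs ▸ pow_orderOf_eq_one s
      rw [sq] at h1
      exact congrArg Subtype.val h1
    rw [Subgroup.coe_mul, Subgroup.coe_one, ← hg, show g * s * g⁻¹ * (g * s * g⁻¹) = g * (s * s) * g⁻¹ by group,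
      hss]
    group
  -- an involution fixing two points
  obtain ⟨⟨z, hz⟩, hz2⟩ := exists_prime_orderOf_dvd_card' (G := stab₂ G a b) 2 (by
    rw [hE]; exact (Nat.Odd.sub_odd hqo odd_one).two_dvd)
  have hz1 : z ≠ 1 := fun e => by
    rw [show (⟨z, hz⟩ : stab₂ G a b) = 1 from Subtype.ext e, orderOf_one] at hz2; omega
  have hzz : z * z = 1 := by
    have h1 : (⟨z, hz⟩ : stab₂ G a b) ^ 2 = 1 := hz2 ▸ pow_orderOf_eq_one _
    rw [sq] at h1
    exact congrArg Subtype.val h1
  have hzi : z⁻¹ = z := inv_eq_of_mul_eq_one_right hzz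
  obtain ⟨n₀, hn₀⟩ := hbij.2 b
  have hfix : ∀ n : N, z * n * z⁻¹ = (n : G) → n = 1 ∨ n = n₀ := by
    intro n hn
    have h1 : z • ((n : G) • a) = (n : G) • a := by
      conv_rhs => rw [← hn, mul_smul, mul_smul, inv_smul_eq_iff.2 (mem_stabilizer_iff.1 hz.1).symm]
    by_contra hne
    push Not at hne
    exact hz1 (H.fix_three hab (fun h => hne.1 (hbij.1 (h.symm.trans (one_smul G a).symm)))
      (fun h => hne.2 (hbij.1 (h.symm.trans hn₀.symm))) hz.1 hz.2 h1)
  have hinvN : ∀ n : N, (n : G)⁻¹ = n := fun n =>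
    inv_eq_of_mul_eq_one_right (congrArg Subtype.val (hexp n) :)
  have hNcomm : ∀ m n : N, (m : G) * n = n * m := fun m n => by
    have h1 := hinvN (m * n)
    rw [Subgroup.coe_mul, mul_inv_rev, hinvN m, hinvN n] at h1
    exact h1.symm
  let φ : N → N := fun n => n * ⟨z * n * z⁻¹, hN.conj_mem _ n.2 z⟩
  have hφ : ∀ n : N, φ n = 1 ∨ φ n = n₀ := fun n => hfix _ (by
    show z * ((n : G) * (z * n * z⁻¹)) * z⁻¹ = (n : G) * (z * n * z⁻¹)
    rw [hNcomm n ⟨z * n * z⁻¹, hN.conj_mem _ n.2 z⟩]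
    show _ = z * (n : G) * z⁻¹ * n
    rw [show z * ((z * (n : G) * z⁻¹) * n) * z⁻¹ = (z * z) * n * z⁻¹ * (n * z⁻¹) by group, hzz, one_mul, hzi]
    have h2 := hNcomm n ⟨z * n * z⁻¹, hN.conj_mem _ n.2 z⟩
    simp only [hzi] at h2
    rw [← h2]
    group)
  have := Fintype.ofFinite N
  have h4 : Nat.card N ≤ 4 := by
    rw [Nat.card_eq_fintype_card, ← Finset.card_univ]
    refine (Finset.card_le_mul_card_image (f := φ) (s := Finset.univ) (n := 2) ?_).trans ?_
    · intro c _
      rcases Finset.eq_empty_or_nonempty (Finset.univ.filter fun n => φ n = c) with h | ⟨m, hm⟩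
      · rw [h]; simp
      have hm' := (Finset.mem_filter.1 hm).2
      refine le_trans (Finset.card_le_card (t := ({m, m * n₀} : Finset N)) fun n hn => ?_) Finset.card_le_two
      have hn' := (Finset.mem_filter.1 hn).2
      have e : (m : G) * (z * m * z⁻¹) = n * (z * n * z⁻¹) := congrArg Subtype.val (hm'.trans hn'.symm)
      have h5 : z * ((m * n : N) : G) * z⁻¹ = ((m * n : N) : G) := by
        have e1 : z * (n : G) * z⁻¹ = (n : G)⁻¹ * ((m : G) * (z * m * z⁻¹)) := by rw [e, inv_mul_cancel_left]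
        rw [Subgroup.coe_mul, show z * ((m : G) * n) * z⁻¹ = (z * m * z⁻¹) * (z * n * z⁻¹) by group, e1, hinvN n,
          hNcomm m ⟨z * m * z⁻¹, hN.conj_mem _ m.2 z⟩, ← mul_assoc, ← mul_assoc]
        have hswap := hNcomm ⟨z * m * z⁻¹, hN.conj_mem _ m.2 z⟩ n
        rw [hswap, mul_assoc (n : G) (z * m * z⁻¹)]
        have hsq : z * (m : G) * z⁻¹ * (z * m * z⁻¹) = 1 :=
          congrArg Subtype.val (hexp ⟨z * m * z⁻¹, hN.conj_mem _ m.2 z⟩)
        rw [hsq, mul_one]
        exact hNcomm n m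
      rcases hfix _ h5 with h6 | h6
      · refine Finset.mem_insert.2 (Or.inl ?_)
        rw [← mul_one m, ← h6, ← mul_assoc, hexp m, one_mul]
      · refine Finset.mem_insert.2 (Or.inr (Finset.mem_singleton.2 ?_))
        rw [← h6, ← mul_assoc, hexp m, one_mul]
    · refine Nat.mul_le_mul_left 2 (le_trans (Finset.card_le_card (t := ({1, n₀} : Finset N)) fun c hc => ?_)
        Finset.card_le_two)
      obtain ⟨n, -, rfl⟩ := Finset.mem_image.1 hc
      rcases hφ n with h | h <;> simp [h]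
  have := H.large
  omega

/-- The number of involutions fixing a point is `q`. -/
theorem Hyp.card_fix_inv (a : Sylow p G) :
    Nat.card {t : G // orderOf t = 2 ∧ t • a = a} = q := by
  classical
  have := Fact.mk H.prime
  obtain ⟨hcomm, z, hzz, hz1, hza⟩ := H.sylow_facts a
  have hord : ∀ t : G, orderOf t = 2 → t • a = a → ∀ x ∈ a, t * x * t⁻¹ = x⁻¹ := by
    intro t ht hta x hx
    have hnorm : t ∈ Subgroup.normalizer (a : Set G) := Sylow.smul_eq_iff_mem_normalizer.1 hta
    let φ : a →* a := ((Subgroup.normalizerMonoidHom (a : Subgroup G) ⟨t, hnorm⟩ : MulAut a)).toMonoidHom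
    have hφ : ∀ y : a, ((φ y : a) : G) = t * y * t⁻¹ := fun y => rfl
    have hfpf : MonoidHom.FixedPointFree φ := fun y hy => by
      by_contra hy1
      have hyp := H.order_of_mem y.2 fun e => hy1 (Subtype.ext e)
      have hc : Commute t (y : G) := mul_inv_eq_iff_eq_mul.1 ((hφ y).symm.trans (congrArg Subtype.val hy))
      have h1 := hc.orderOf_mul_eq_mul_orderOf_of_coprime (by
        rw [ht, hyp]; exact (Nat.coprime_primes Nat.prime_two H.prime).2 (Ne.symm H.odd))
      have h2 := H.iso _ (show p ∣ orderOf (t * (y : G)) by rw [h1, hyp]; exact dvd_mul_left p _)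
      rw [h1, ht, hyp] at h2
      have := H.prime.pos; omega
    have htt : t * t = 1 := by
      have h := pow_orderOf_eq_one t
      rwa [ht, sq] at h
    have hinv : Function.Involutive φ := fun y => Subtype.ext (by
      rw [hφ, hφ, show t * (t * (y : G) * t⁻¹) * t⁻¹ = t * t * y * (t * t)⁻¹ by group, htt]; group)
    have h3 := congrFun (hfpf.coe_eq_inv_of_involutive hinv) ⟨x, hx⟩
    exact (hφ ⟨x, hx⟩).symm.trans (congrArg Subtype.val h3)
  have hz2 : orderOf z = 2 := orderOf_eq_prime (by rw [sq]; exact hzz) hz1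
  let m : a → {t : G // orderOf t = 2 ∧ t • a = a} := fun x => ⟨z * x, by
    refine ⟨orderOf_eq_prime ?_ fun e => hz1 ?_, by rw [mul_smul, H.smul_self x.2, hza]⟩
    · rw [sq, show z * (x : G) * (z * x) = z * x * z⁻¹ * (z * z) * x by group, hzz, mul_one,
        hord z hz2 hza x x.2, inv_mul_cancel]
    · have h1 : z = (x : G)⁻¹ := eq_inv_of_mul_eq_one_left e
      by_contra h
      have := H.order_of_mem (show z ∈ a from h1 ▸ inv_mem x.2) h
      rw [hz2] at this; exact H.odd this.symm⟩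
  have hm : Function.Bijective m := by
    refine ⟨fun x y h => Subtype.ext (mul_left_cancel (congrArg Subtype.val h)), fun ⟨t, ht, hta⟩ => ?_⟩
    have hnt : Nontrivial a := Finite.one_lt_card_iff_nontrivial.1 (by rw [H.card_sylow_q]; have := H.large; omega)
    obtain ⟨⟨x, hx⟩, hx1⟩ := exists_ne (1 : a)
    have hx1' : x ≠ 1 := fun e => hx1 (Subtype.ext e)
    have hzt : z⁻¹ * t ∈ a := by
      have hzx := hord z hz2 hza x hx
      have htx := hord t ht hta x hx
      have h1 : t * x * t⁻¹ = z * x * z⁻¹ := htx.trans hzx.symm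
      have h2 : z⁻¹ * t * x * (z⁻¹ * t)⁻¹ = x := by
        rw [show z⁻¹ * t * x * (z⁻¹ * t)⁻¹ = z⁻¹ * (t * x * t⁻¹) * z by group, h1]; group
      have h3 : z⁻¹ * t ∈ Subgroup.centralizer ({x} : Set G) :=
        Subgroup.mem_centralizer_singleton_iff.2 (mul_inv_eq_iff_eq_mul.1 h2)
      rwa [H.centralizer_eq hx hx1'] at h3
    exact ⟨⟨_, hzt⟩, Subtype.ext (mul_inv_cancel_left z t)⟩
  rw [← Nat.card_eq_of_bijective m hm, H.card_sylow_q']

theorem Hyp.stab₂_comm {a b : Sylow p G} (hab : a ≠ b) :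
    ∀ u ∈ stab₂ G a b, ∀ v ∈ stab₂ G a b, u * v = v * u := by
  classical
  have hp := Fact.mk H.prime
  have := Fintype.ofFinite (Sylow p G)
  let S : Sylow p G → Type u := fun c => {t : G // orderOf t = 2 ∧ t • a = c}
  have hconst : ∀ c, c ≠ a → Nat.card (S c) = Nat.card (S b) := by
    intro c hc
    obtain ⟨x, hx, hxb⟩ := H.regular (P := a) hab.symm hc
    refine (Nat.card_congr ((MulAut.conj x).toEquiv.subtypeEquiv fun t => ?_)).symm
    show orderOf t = 2 ∧ t • a = b ↔ orderOf (x * t * x⁻¹) = 2 ∧ (x * t * x⁻¹) • a = c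
    rw [orderOf_conj', mul_smul, mul_smul, H.smul_self (inv_mem hx), ← hxb, (MulAction.injective x).eq_iff]
  have hSb : Nat.card (S b) = q - 1 := by
    have htot : Nat.card {t : G // orderOf t = 2} = ∑ c, Nat.card (S c) := by
      rw [← Nat.card_sigma]
      exact Nat.card_congr
        { toFun := fun t => ⟨(t : G) • a, ⟨t, t.2, rfl⟩⟩
          invFun := fun s => ⟨s.2.1, s.2.2.1⟩
          left_inv := fun t => rfl
          right_inv := by
            rintro ⟨c, t, ht, rfl⟩
            rfl }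
    rw [show Nat.card {t : G // orderOf t = 2} = q ^ 2 from H.two,
      ← Finset.add_sum_erase _ _ (Finset.mem_univ a), Finset.sum_congr rfl
        (fun c hc => hconst c (Finset.ne_of_mem_erase hc)), Finset.sum_const, smul_eq_mul,
      Finset.card_erase_of_mem (Finset.mem_univ a), Finset.card_univ, ← Nat.card_eq_fintype_card,
      H.card_sylow_set, Nat.add_sub_cancel, show Nat.card (S a) = q from H.card_fix_inv a] at htot
    refine Nat.eq_of_mul_eq_mul_left H.qpos ?_
    have h1 : q * (q - 1) = q * q - q := by rw [Nat.mul_sub, mul_one]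
    have h2 : q ^ 2 = q * q := sq q
    omega
  have : Nonempty (S b) := by
    rw [← not_isEmpty_iff]
    intro h
    rw [Nat.card_of_isEmpty] at hSb
    have := H.large; omega
  obtain ⟨⟨w, hw2, hwa⟩⟩ := this
  have hww : w * w = 1 := by
    have h := pow_orderOf_eq_one w
    rwa [hw2, sq] at h
  have hwb : w • b = a := by rw [← hwa, ← mul_smul, hww, one_smul]
  let m : S b → stab₂ G a b := fun t => ⟨w * t.1, Subgroup.mem_inf.2 ⟨mem_stabilizer_iff.2 (by
      rw [mul_smul, t.2.2, hwb]), mem_stabilizer_iff.2 (by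
      have htt : t.1 * t.1 = 1 := by
        have h := pow_orderOf_eq_one t.1
        rwa [t.2.1, sq] at h
      have htb : t.1 • b = a := (congrArg (t.1 • ·) t.2.2.symm).trans (by rw [← mul_smul, htt, one_smul])
      rw [mul_smul, htb, hwa])⟩⟩
  have hm : Function.Injective m := fun s t h => Subtype.ext (mul_left_cancel (congrArg Subtype.val h))
  have hmb := hm.bijective_of_nat_card_le (by rw [H.card_stab₂ hab, hSb])
  have hinv : ∀ u ∈ stab₂ G a b, w * u * w = u⁻¹ := by
    intro u hu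
    obtain ⟨⟨t, ht, hta⟩, htu⟩ := hmb.2 ⟨u, hu⟩
    have h : w * t = u := congrArg Subtype.val htu
    have htt : t * t = 1 := by
      have h' := pow_orderOf_eq_one t
      rwa [ht, sq] at h'
    refine eq_inv_of_mul_eq_one_left ?_
    rw [← h, show w * (w * t) * w * (w * t) = (w * w) * t * (w * w) * t by group, hww, one_mul, mul_one, htt]
  intro u hu v hv
  have h1 := hinv (u * v) (mul_mem hu hv)
  have h2 : w * (u * v) * w = (w * u * w) * (w * v * w) := by
    rw [show w * u * w * (w * v * w) = w * u * (w * w) * v * w by group, hww]; group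
  rw [h2, hinv u hu, hinv v hv, ← mul_inv_rev] at h1
  exact (inv_injective h1).symm

theorem Hyp.exists_iso : ∃ (F : Type) (_ : Field F) (_ : Fintype F),
    Fintype.card F = q ∧ Nonempty (G ≃* Matrix.ProjGenLinGroup (Fin 2) F) := by
  classical
  have hp := Fact.mk H.prime
  have := Fintype.ofFinite (Sylow p G)
  have hΩ : Fintype.card (Sylow p G) = q + 1 := by rw [← Nat.card_eq_fintype_card, H.card_sylow_set]
  obtain ⟨a, b, hab⟩ := Fintype.exists_pair_of_one_lt_card (α := Sylow p G)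
    (by have := H.large; omega)
  obtain ⟨F, iF, iFF, hF, he⟩ := Cfsg.Lib.RankOne.sharp_pgl (H := (a : Subgroup G)) H.zassenhaus hab
    (by rw [H.card_stab₂ hab, hΩ]; have := H.large; omega) (H.stab₂_comm hab)
    (fun x hx => mem_stabilizer_iff.2 (H.smul_self hx))
    (by rw [hΩ, H.card_sylow_q a])
    (fun x hx hx1 c hc => by_contra fun hca => hx1 (H.free (Ne.symm hca) hx hc))
  exact ⟨F, iF, iFF, hF.trans (H.card_sylow_q a), he⟩

end Cfsg.Lib.NseProjLine
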