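import Cfsg.Agent.NseProjLine.Counting
import Cfsg.Agent.Classical.SL
import Mathlib

/-!
The multiplicities of element orders in `PGL(2, q)` for odd `q`.
-/

set_option autoImplicit false
set_option linter.unusedSectionVars false

namespace Cfsg.Lib.NseProjLine

open Matrix
open scoped MatrixGroups
open Cfsg.Lib.SameOrder (cnt cnt_one cnt_ne_zero_iff)

variable {F : Type*} [Field F] [Fintype F]

/-- The matrix `(a b; c d)` as an invertible matrix. -/
noncomputable def mat (a b c d : F) (h : a * d - b * c ≠ 0) : GL (Fin 2) F :=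
  GeneralLinearGroup.mkOfDetNeZero !![a, b; c, d] (by rw [det_fin_two_of]; exact h)

theorem mat_val (a b c d : F) (h : a * d - b * c ≠ 0) :
    ((mat a b c d h : GL (Fin 2) F) : Matrix (Fin 2) (Fin 2) F) = !![a, b; c, d] := rfl

theorem eq_smul_of_mk_eq {A B : GL (Fin 2) F} (h : ProjGenLinGroup.mk A = ProjGenLinGroup.mk B) :
    ∃ v : F, v ≠ 0 ∧ ∀ i j, A i j * v = B i j := by
  obtain ⟨v, hv⟩ := ProjGenLinGroup.mk_eq_mk_iff.1 h
  refine ⟨v, v.ne_zero, fun i j => ?_⟩
  have h1 := congrFun (congrFun (congrArg (fun g : GL (Fin 2) F => (g : Matrix (Fin 2) (Fin 2) F)) hv) i) j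
  simpa [GeneralLinearGroup.coe_scalar, Matrix.scalar_apply, Matrix.mul_diagonal] using h1

theorem mk_eq_of_smul {A B : GL (Fin 2) F} {v : F} (hv : v ≠ 0) (h : ∀ i j, A i j * v = B i j) :
    ProjGenLinGroup.mk A = ProjGenLinGroup.mk B :=
  ProjGenLinGroup.mk_eq_mk_iff.2 ⟨Units.mk0 v hv, by
    ext i j
    simp [GeneralLinearGroup.coe_scalar, Matrix.scalar_apply, Matrix.mul_diagonal, h i j]⟩

instance : Finite (ProjGenLinGroup (Fin 2) F) :=
  Finite.of_surjective _ ProjGenLinGroup.mk_surjective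

theorem card_target : Nat.card (ProjGenLinGroup (Fin 2) F) = Fintype.card F * (Fintype.card F ^ 2 - 1) := by
  classical
  have hq := Fintype.one_lt_card (α := F)
  have h1 := Cfsg.Lib.Classical.card_PGL (ι := Fin 2) (F := F)
  have h2 := Cfsg.Lib.Classical.card_SL_mul (ι := Fin 2) (F := F)
  rw [Matrix.card_GL_field] at h2
  simp only [Fin.prod_univ_two, Fin.val_zero, Fin.val_one, pow_zero, pow_one] at h2
  rw [← h1, Nat.card_eq_fintype_card (α := F)] at h2
  obtain ⟨k, hk⟩ : ∃ k, Fintype.card F = k + 2 := ⟨Fintype.card F - 2, by omega⟩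
  rw [hk] at h2 ⊢
  refine Nat.eq_of_mul_eq_mul_left (show 0 < k + 2 - 1 by omega) (h2.trans ?_)
  rw [show (k + 2) ^ 2 - 1 = (k + 3) * (k + 1) by ring_nf; omega,
    show (k + 2) ^ 2 - (k + 2) = (k + 2) * (k + 1) by ring_nf; omega, show k + 2 - 1 = k + 1 from rfl]
  ring

/-- The upper unitriangular elements. -/
noncomputable def uni (b : F) : ProjGenLinGroup (Fin 2) F :=
  ProjGenLinGroup.mk (mat 1 b 0 1 (by simp))

theorem uni_add (a b : F) : uni (a + b) = uni a * uni b := by
  rw [uni, uni, uni, ← map_mul]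
  congr 1
  refine Units.ext ?_
  rw [Units.val_mul, mat_val, mat_val, mat_val, Matrix.mul_fin_two]
  simp [add_comm]

theorem uni_inj : Function.Injective (uni (F := F)) := by
  intro a b h
  obtain ⟨v, -, hv⟩ := eq_smul_of_mk_eq h
  have h0 := hv 0 0
  have h1 := hv 0 1
  simp [mat_val] at h0 h1
  rw [h0, mul_one] at h1
  exact h1

/-- The upper unitriangular elements as a homomorphism. -/
noncomputable def uniHom : Multiplicative F →* ProjGenLinGroup (Fin 2) F :=
  MonoidHom.mk' (fun b => uni b.toAdd) fun a b => uni_add a.toAdd b.toAdd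

theorem card_uni : Nat.card (uniHom (F := F)).range = Fintype.card F := by
  have hi : Function.Injective (uniHom (F := F)) := fun a b h => Multiplicative.toAdd.injective (uni_inj h)
  rw [← Nat.card_congr (MonoidHom.ofInjective hi).toEquiv, Nat.card_congr Multiplicative.toAdd,
    Nat.card_eq_fintype_card]

theorem commute_uni_one (g : ProjGenLinGroup (Fin 2) F) (h : g * uni 1 = uni 1 * g) :
    g ∈ (uniHom (F := F)).range := by
  obtain ⟨A, rfl⟩ := ProjGenLinGroup.mk_surjective g
  rw [uni, ← map_mul, ← map_mul] at h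
  obtain ⟨v, hv0, hv⟩ := eq_smul_of_mk_eq h
  have hA : A 0 0 * A 1 1 - A 0 1 * A 1 0 ≠ 0 := by
    have := A.det_ne_zero
    rwa [det_fin_two] at this
  have h00 := hv 0 0
  have h01 := hv 0 1
  have h10 := hv 1 0
  have h11 := hv 1 1
  simp [mat_val, Units.val_mul, Matrix.mul_apply, Fin.sum_univ_two] at h00 h01 h10 h11
  have hc : A 1 0 = 0 := by
    by_contra hc
    have hv1 : v = 1 := mul_left_cancel₀ hc (by rw [mul_one]; exact h10)
    rw [hv1, mul_one] at h00
    exact hc (by linear_combination -h00)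
  rw [hc] at hA
  have hd : A 1 1 ≠ 0 := fun e => hA (by rw [e]; ring)
  have ha : A 0 0 ≠ 0 := fun e => hA (by rw [e]; ring)
  have hv1 : v = 1 := mul_left_cancel₀ hd (by rw [hc] at h11; simpa using h11)
  rw [hv1, mul_one] at h01
  have had : A 0 0 = A 1 1 := by linear_combination h01
  refine ⟨Multiplicative.ofAdd (A 0 1 / A 0 0), ?_⟩
  refine mk_eq_of_smul ha fun i j => ?_
  fin_cases i <;> fin_cases j <;> simp [mat_val, hc, ← had, ha]

section Sylow

variable {p f : ℕ} [hpF : Fact p.Prime] (hf : Fintype.card F = p ^ f)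
include hf

theorem uni_pGroup : IsPGroup p (uniHom (F := F)).range :=
  IsPGroup.of_card (n := f) (card_uni.trans hf)

theorem pow_uni_eq_one (hcp : CharP F p) (b : F) : uni b ^ p = 1 := by
  have h : ∀ n : ℕ, uni b ^ n = uni (n * b) := by
    intro n
    induction n with
    | zero =>
      rw [pow_zero, Nat.cast_zero, zero_mul]
      exact (map_one (uniHom (F := F))).symm
    | succ n ih => rw [pow_succ, ih, ← uni_add, Nat.cast_succ, add_mul, one_mul]
  rw [h, CharP.cast_eq_zero, zero_mul]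
  exact map_one (uniHom (F := F))

theorem isConj_uni_one {b : F} (hb : b ≠ 0) : IsConj (uni 1) (uni b) := by
  rw [isConj_iff]
  refine ⟨ProjGenLinGroup.mk (mat b 0 0 1 (by simpa)), ?_⟩
  rw [mul_inv_eq_iff_eq_mul, uni, uni, ← map_mul, ← map_mul]
  congr 1
  refine Units.ext ?_
  simp [Units.val_mul, mat_val]

theorem isConj_uni_one_of_order {x : ProjGenLinGroup (Fin 2) F} (hx : orderOf x = p) :
    IsConj (uni 1) x := by
  classical
  have hp := hpF.out
  have hf0 : 0 < f := Nat.pos_of_ne_zero fun e => by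
    have := Fintype.one_lt_card (α := F)
    rw [hf, e, pow_zero] at this; omega
  have hcard : Nat.card (uniHom (F := F)).range = p ^ (Nat.card (ProjGenLinGroup (Fin 2) F)).factorization p := by
    rw [card_uni, card_target, hf, Nat.factorization_mul (pow_ne_zero _ hp.ne_zero) (by
        have : 1 < (p ^ f) ^ 2 := Nat.one_lt_pow two_ne_zero (Nat.one_lt_pow hf0.ne' hp.one_lt)
        omega),
      Finsupp.add_apply, hp.factorization_pow, Finsupp.single_eq_same,
      Nat.factorization_eq_zero_of_not_dvd (fun h => hp.not_dvd_one ?_), add_zero]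
    have h2 : p ∣ (p ^ f) ^ 2 := dvd_pow (dvd_pow_self p hf0.ne') two_ne_zero
    exact (Nat.dvd_sub_iff_right (Nat.one_le_pow _ _ (pow_pos hp.pos _)) h2).1 h
  let P : Sylow p (ProjGenLinGroup (Fin 2) F) := Sylow.ofCard _ hcard
  obtain ⟨Q, hQ⟩ := IsPGroup.exists_le_sylow
    (IsPGroup.of_card (n := 1) (by rw [Nat.card_zpowers, hx, pow_one]) : IsPGroup p (Subgroup.zpowers x))
  obtain ⟨g, hg⟩ := MulAction.exists_smul_eq (ProjGenLinGroup (Fin 2) F) P Q
  have hxQ : x ∈ ((g • P : Sylow p (ProjGenLinGroup (Fin 2) F)) : Subgroup (ProjGenLinGroup (Fin 2) F)) :=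
    hg ▸ hQ (Subgroup.mem_zpowers x)
  rw [Sylow.coe_subgroup_smul, Subgroup.mem_smul_pointwise_iff_exists] at hxQ
  obtain ⟨y, hy, rfl⟩ := hxQ
  obtain ⟨b, rfl⟩ := (hy : y ∈ (uniHom (F := F)).range)
  have hb : b.toAdd ≠ 0 := fun e => hp.one_lt.ne (by
    rw [← hx, show uniHom b = 1 from (congrArg uni e).trans (map_one (uniHom (F := F))), smul_one,
      orderOf_one])
  exact (isConj_uni_one hf hb).trans (isConj_iff.2 ⟨g, rfl⟩)

theorem target_isolated (hcp : CharP F p) (x : ProjGenLinGroup (Fin 2) F) (hx : p ∣ orderOf x) :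
    orderOf x = p := by
  have hp := hpF.out
  set y := x ^ (orderOf x / p)
  have hy : orderOf y = p := by
    rw [orderOf_pow' x (Nat.div_pos (Nat.le_of_dvd (orderOf_pos x) hx) hp.pos).ne',
      Nat.gcd_eq_right (Nat.div_dvd_of_dvd hx), Nat.div_div_self hx (orderOf_pos x).ne']
  obtain ⟨g, hg⟩ := isConj_iff.1 (isConj_uni_one_of_order hf hy)
  have hc : Commute (g⁻¹ * x * g) (uni 1) := by
    have h1 : Commute x (g * uni 1 * g⁻¹) := hg ▸ (Commute.self_pow x _)
    have h2 := h1.map (MulAut.conj g⁻¹).toMonoidHom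
    simpa [MulAut.conj_apply, mul_assoc] using h2
  obtain ⟨b, hb⟩ := commute_uni_one _ hc.eq
  have hxp : x ^ p = 1 := by
    have h1 : (g⁻¹ * x * g) ^ p = 1 := hb ▸ pow_uni_eq_one hf hcp b.toAdd
    have h2 : g⁻¹ * x * g = MulAut.conj g⁻¹ x := by simp
    rw [h2, ← map_pow] at h1
    exact (MulAut.conj g⁻¹).map_eq_one_iff.1 h1
  rcases (Nat.dvd_prime hp).1 (orderOf_dvd_of_pow_eq_one hxp) with h | h
  · rw [h] at hx; exact absurd hx hp.not_dvd_one
  · exact h

theorem cnt_target_p (hcp : CharP F p) :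
    cnt (ProjGenLinGroup (Fin 2) F) p = Fintype.card F ^ 2 - 1 := by
  have hp := hpF.out
  have hord : orderOf (uni (1 : F)) = p := orderOf_eq_prime (pow_uni_eq_one hf hcp 1) fun h =>
    one_ne_zero (uni_inj (h.trans (map_one (uniHom (F := F))).symm))
  have hC : Subgroup.centralizer ({uni (1 : F)} : Set (ProjGenLinGroup (Fin 2) F)) = uniHom.range := by
    refine le_antisymm (fun g hg => commute_uni_one g (Subgroup.mem_centralizer_singleton_iff.1 hg)) ?_
    rintro _ ⟨b, rfl⟩
    rw [Subgroup.mem_centralizer_singleton_iff]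
    show uni b.toAdd * uni 1 = uni 1 * uni b.toAdd
    rw [← uni_add, ← uni_add, add_comm]
  have h := card_conj_mul (uni (1 : F))
  rw [hC, card_uni, card_target] at h
  rw [cnt, ← Nat.card_congr (Equiv.subtypeEquivRight fun y => (?_ : IsConj (uni (1 : F)) y ↔ orderOf y = p))]
  · exact Nat.eq_of_mul_eq_mul_left Fintype.card_pos ((mul_comm _ _).trans h)
  · refine ⟨fun hy => ?_, isConj_uni_one_of_order hf⟩
    obtain ⟨g, rfl⟩ := isConj_iff.1 hy
    rw [orderOf_conj', hord]

theorem cnt_target_dvd (hcp : CharP F p) {n : ℕ} (hn1 : n ≠ 1) (hnp : n ≠ p) :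
    Fintype.card F ∣ cnt (ProjGenLinGroup (Fin 2) F) n := by
  by_cases hpn : p ∣ n
  · by_cases h0 : cnt (ProjGenLinGroup (Fin 2) F) n = 0
    · rw [h0]; exact dvd_zero _
    · obtain ⟨x, rfl⟩ := (cnt_ne_zero_iff n).1 h0
      exact absurd (target_isolated hf hcp x hpn) hnp
  · exact card_uni (F := F) ▸ dvd_cnt_of_isolated hpF.out (target_isolated hf hcp) _ (uni_pGroup hf) hn1 hpn

end Sylow

theorem cnt_target_two (h2 : (2 : F) ≠ 0) :
    cnt (ProjGenLinGroup (Fin 2) F) 2 = Fintype.card F ^ 2 := by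
  classical
  have hone : (-1 : F) ≠ 1 := fun h => h2 (by linear_combination -h)
  let A : (F × Fˣ) ⊕ F → GL (Fin 2) F := Sum.elim
    (fun x => mat x.1 ((x.2 : F) - x.1 ^ 2) 1 (-x.1) (by
      rw [show x.1 * -x.1 - ((x.2 : F) - x.1 ^ 2) * 1 = -(x.2 : F) by ring]
      exact neg_ne_zero.2 x.2.ne_zero))
    (fun b => mat 1 b 0 (-1) (by simp))
  have hA : ∀ s, orderOf (ProjGenLinGroup.mk (A s)) = 2 := by
    intro s
    refine orderOf_eq_prime ?_ ?_
    · rw [sq, ← map_mul]
      rcases s with ⟨a, d⟩ | b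
      · rw [show A (Sum.inl (a, d)) * A (Sum.inl (a, d)) = GeneralLinearGroup.scalar (Fin 2) d from ?_]
        · exact ProjGenLinGroup.mk_scalar d
        ext i j
        fin_cases i <;> fin_cases j <;>
          simp [A, mat_val, Units.val_mul, Matrix.mul_apply, Fin.sum_univ_two,
            GeneralLinearGroup.coe_scalar, Matrix.scalar_apply, Matrix.diagonal] <;> ring
      · rw [show A (Sum.inr b) * A (Sum.inr b) = 1 from ?_, map_one]
        ext i j
        fin_cases i <;> fin_cases j <;> simp [A, mat_val, Units.val_mul, Matrix.mul_apply, Fin.sum_univ_two]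
    · intro h
      obtain ⟨v, hv, hv'⟩ := eq_smul_of_mk_eq (h.trans (map_one ProjGenLinGroup.mk).symm)
      rcases s with ⟨a, d⟩ | b
      · have := hv' 1 0
        simp [A, mat_val] at this
        exact hv this
      · have h00 := hv' 0 0
        have h11 := hv' 1 1
        simp [A, mat_val] at h00 h11
        rw [h00] at h11
        exact hone h11
  have hbij : Function.Bijective (fun s => (⟨ProjGenLinGroup.mk (A s), hA s⟩ :
      {x : ProjGenLinGroup (Fin 2) F // orderOf x = 2})) := by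
    constructor
    · intro s t hst
      obtain ⟨v, hv, hv'⟩ := eq_smul_of_mk_eq (congrArg Subtype.val hst)
      have h00 := hv' 0 0
      have h01 := hv' 0 1
      have h10 := hv' 1 0
      rcases s with ⟨a, d⟩ | b <;> rcases t with ⟨a', d'⟩ | b' <;> simp [A, mat_val] at h00 h01 h10
      · rw [h10, mul_one] at h00
        rw [h10, mul_one, ← h00] at h01
        rw [h00, Units.ext (show (d : F) = d' by linear_combination h01)]
      · exact absurd h10 hv
      · rw [h00, mul_one] at h01
        rw [h01]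
    · rintro ⟨x, hx⟩
      obtain ⟨M, rfl⟩ := ProjGenLinGroup.mk_surjective x
      have hne : ProjGenLinGroup.mk M ≠ 1 := fun h => by rw [h, orderOf_one] at hx; omega
      have hsq : ProjGenLinGroup.mk (M * M) = ProjGenLinGroup.mk (1 : GL (Fin 2) F) := by
        have h := pow_orderOf_eq_one (ProjGenLinGroup.mk M)
        rw [hx, sq] at h
        rw [map_mul, map_one, h]
      obtain ⟨v, hv, hv'⟩ := eq_smul_of_mk_eq hsq.symm
      have h00 := hv' 0 0
      have h01 := hv' 0 1
      have h10 := hv' 1 0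
      have h11 := hv' 1 1
      simp [Units.val_mul, Matrix.mul_apply, Fin.sum_univ_two] at h00 h01 h10 h11
      have hdet : M 0 0 * M 1 1 - M 0 1 * M 1 0 ≠ 0 := by
        have := M.det_ne_zero
        rwa [det_fin_two] at this
      have htr : M 1 1 = -M 0 0 := by
        by_contra ht
        have ht' : M 0 0 + M 1 1 ≠ 0 := fun e => ht (by linear_combination e)
        have hb : M 0 1 = 0 := (mul_eq_zero.1 (show M 0 1 * (M 0 0 + M 1 1) = 0 by linear_combination -h01)).resolve_right ht'
        have hc : M 1 0 = 0 := (mul_eq_zero.1 (show M 1 0 * (M 0 0 + M 1 1) = 0 by linear_combination -h10)).resolve_right ht'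
        have had : M 0 0 - M 1 1 = 0 :=
          (mul_eq_zero.1 (show (M 0 0 - M 1 1) * (M 0 0 + M 1 1) = 0 by linear_combination h11 - h00)).resolve_right ht'
        have ha : M 0 0 ≠ 0 := fun e => hdet (by rw [e, hb]; ring)
        refine hne ((mk_eq_of_smul ha fun i j => ?_).symm.trans (map_one _))
        fin_cases i <;> fin_cases j <;> simp [hb, hc, show M 1 1 = M 0 0 by linear_combination -had]
      by_cases hc : M 1 0 = 0
      · have ha : M 0 0 ≠ 0 := fun e => hdet (by rw [e, hc]; ring)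
        refine ⟨Sum.inr (M 0 1 / M 0 0), Subtype.ext (mk_eq_of_smul ha fun i j => ?_)⟩
        fin_cases i <;> fin_cases j <;> simp [A, mat_val, hc, htr, ha]
      · have hd : (M 0 0 * M 0 0 + M 0 1 * M 1 0) / M 1 0 ^ 2 ≠ 0 :=
          div_ne_zero (by rw [← h00]; exact hv) (pow_ne_zero _ hc)
        refine ⟨Sum.inl (M 0 0 / M 1 0, Units.mk0 _ hd), Subtype.ext (mk_eq_of_smul hc fun i j => ?_)⟩
        fin_cases i <;> fin_cases j <;> simp [A, mat_val, htr, hc] <;> field_simp <;> ring
  rw [cnt, ← Nat.card_eq_of_bijective _ hbij, Nat.card_sum, Nat.card_prod, Nat.card_units,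
    Nat.card_eq_fintype_card]
  obtain ⟨k, hk⟩ : ∃ k, Fintype.card F = k + 1 := ⟨Fintype.card F - 1, by have := Fintype.card_pos (α := F); omega⟩
  rw [hk, Nat.add_sub_cancel]; ring

end Cfsg.Lib.NseProjLine
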